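import Groth.Agent.HopfKer.Local
import Groth.Agent.MultBridge.Sub
import Groth.Agent.MultType.QuasiIso
import Groth.Agent.QuotTorus.Prop
/-!
Kernels of homomorphisms from groups of multiplicative type.
-/

set_option autoImplicit false
set_option backward.isDefEq.respectTransparency false
set_option backward.isDefEq.respectTransparency.types false
set_option linter.unusedSectionVars false
set_option linter.style.haveILetI false

universe u

open TensorProduct SGA3b AlgebraicGeometry CategoryTheory
open scoped TensorProduct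

noncomputable section

namespace Groth.Agent.HopfKer

variable {R : Type u} [CommRing R] {A : Type u} [CommRing A] [HopfAlgebra R A]

/-- A group of multiplicative type and finite type splits étale-locally. -/
theorem exists_etale_split_multType (hA : IsMultType R A) (hft : Algebra.FiniteType R A) (p : Ideal R) [p.IsPrime] :
    ∃ (S : Type u) (_ : CommRing S) (_ : Algebra R S) (P : Ideal S),
      Algebra.Etale R S ∧ P.IsPrime ∧ P.comap (algebraMap R S) = p ∧ IsDiag S (S ⊗[R] A) := by
  haveI := hft
  obtain ⟨s, hs, hc⟩ := MultType.exists_charts hA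
  obtain ⟨f, hf, hfp⟩ : ∃ f ∈ s, f ∉ p := by
    by_contra! hn
    exact ‹p.IsPrime›.ne_top (top_le_iff.1 (hs ▸ Ideal.span_le.2 hn))
  obtain ⟨c, rfl⟩ := hc f hf
  let L := Localization.Away c.f
  have hd : Disjoint (Submonoid.powers c.f : Set R) (p : Set R) :=
    Set.disjoint_left.2 fun x ⟨k, hk⟩ hx => hfp (‹p.IsPrime›.mem_of_pow_mem k (show c.f ^ k ∈ p from (show c.f ^ k = x from hk).symm ▸ hx))
  let p' : Ideal L := p.map (algebraMap R L)
  haveI : p'.IsPrime := IsLocalization.isPrime_of_isPrime_disjoint (Submonoid.powers c.f) L p ‹_› hd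
  have hp' : p'.comap (algebraMap R L) = p :=
    IsLocalization.comap_map_of_isPrime_disjoint (Submonoid.powers c.f) L ‹_› hd
  haveI : Module.FaithfullyFlat L c.R' := c.ff
  obtain ⟨S, _, _, P, hS, hP, hPp, hSd⟩ := MultType.exists_etale_split (A := L ⊗[R] A) c.R'
    (MultType.isDiag_congr (MultType.cbc (R := R) (A := A) L c.R').symm ⟨c.M, inferInstance, ⟨c.e⟩⟩) inferInstance p'
  letI : Algebra R S := ((algebraMap L S).comp (algebraMap R L)).toAlgebra
  haveI : IsScalarTower R L S := IsScalarTower.of_algebraMap_eq' rfl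
  haveI : Algebra.Etale R L := Algebra.Etale.of_isLocalizationAway c.f
  refine ⟨S, inferInstance, inferInstance, P, Algebra.Etale.comp R L S, hP, ?_,
    MultType.isDiag_congr (MultType.cbc (R := R) (A := A) L S) hSd⟩
  show P.comap ((algebraMap L S).comp (algebraMap R L)) = p
  rw [← Ideal.comap_comap, hPp, hp']

/-- The scheme of a Hopf algebra of multiplicative type and finite type. -/
theorem isMultTypeFT_spec (hA : IsMultType R A) (hft : Algebra.FiniteType R A) :
    SGA3x.IsMultTypeFT (TorusField.specGrp R A).X := by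
  haveI := hft
  obtain ⟨e⟩ := QuotTorus.nonempty_bcId_iso (TorusField.specGrp R A).X
  refine MultBridge.isMultTypeFT_of_local fun s => ?_
  let p : PrimeSpectrum R := s
  obtain ⟨S, _, _, P, hS, hP, hPp, hSd⟩ := exists_etale_split_multType hA hft p.asIdeal
  exact MultBridge.exists_split_of_etale (g := 𝟙 (Spec (CommRingCat.of R))) e.symm s p rfl S P hPp hSd

/-- A group of multiplicative type and finite type is of finite presentation. -/
theorem finitePresentation_of_isMultType (hA : IsMultType R A) (hft : Algebra.FiniteType R A) :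
    Algebra.FinitePresentation R A := by
  have h : LocallyOfFinitePresentation (Spec.map (CommRingCat.ofHom (algebraMap R A))) :=
    FixedSmooth.locallyOfFinitePresentation_of_isMultTypeFT (isMultTypeFT_spec hA hft)
  rw [HasRingHomProperty.Spec_iff (P := @LocallyOfFinitePresentation)] at h
  exact RingHom.finitePresentation_algebraMap.1 h

variable {C : Type u} [CommRing C] [HopfAlgebra R C] [Algebra.FiniteType R C] (φ : C →ₐc[R] A)

/-- The kernel ideal after a base change splitting the group. -/
theorem free_baseChange (hft : Algebra.FiniteType R A) (J : Ideal A)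
    (hJ : J = Ideal.map φ (RingHom.ker (Bialgebra.counitAlgHom R C))) (B : Type u) [CommRing B] [Algebra R B]
    [IsLocalRing B] (hd : IsDiag B (B ⊗[R] A)) : Module.Free B (B ⊗[R] (A ⧸ J)) := by
  obtain ⟨N, _, ⟨e⟩⟩ := hd
  haveI := hft
  haveI := MultType.fg_of_finiteType hft e
  obtain ⟨M, _, hM, ⟨θ⟩⟩ := MultBridge.exists_small_fg N
  haveI := hM
  let e' : B ⊗[R] A ≃ₐc[B] MonoidAlgebra B (Multiplicative M) := e.trans (MonoidAlgebra.domCongrBialgEquiv B B θ)
  let ψ : B ⊗[R] C →ₐc[B] MonoidAlgebra B (Multiplicative M) :=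
    (e' : B ⊗[R] A →ₐc[B] MonoidAlgebra B (Multiplicative M)).comp (MultBridge.tmap B φ)
  haveI := free_quotient ψ fun N => MultKer.subgroup_fg N
  let ea : B ⊗[R] A ≃ₐ[B] MonoidAlgebra B (Multiplicative M) := e'
  let J₁ : Ideal (B ⊗[R] A) := J.map (Algebra.TensorProduct.includeRight : A →ₐ[R] B ⊗[R] A)
  have hmem : ∀ (b : B) (c : C), ψ (b ⊗ₜ c) = ea (b ⊗ₜ φ c) := fun b c => rfl
  have hker : kerI ψ = J₁.map (ea : B ⊗[R] A →+* MonoidAlgebra B (Multiplicative M)) := by
    refine le_antisymm (Ideal.map_le_iff_le_comap.2 fun x hx => ?_) ?_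
    · have key : ∀ y : B ⊗[R] C, ψ y - algebraMap B _ (Coalgebra.counit (R := B) y) ∈
          J₁.map (ea : B ⊗[R] A →+* MonoidAlgebra B (Multiplicative M)) := by
        intro y
        induction y using TensorProduct.induction_on with
        | zero => simp
        | add a b ha hb => rw [map_add, map_add, map_add, add_sub_add_comm]; exact Ideal.add_mem _ ha hb
        | tmul b c =>
          have h1 : φ (c - algebraMap R C (Coalgebra.counit (R := R) c)) ∈ J := by
            rw [hJ]
            refine Ideal.mem_map_of_mem _ ?_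
            show Bialgebra.counitAlgHom R C _ = 0
            simp
          have h2 : ea (b ⊗ₜ φ (c - algebraMap R C (Coalgebra.counit (R := R) c))) ∈
              J₁.map (ea : B ⊗[R] A →+* MonoidAlgebra B (Multiplicative M)) := by
            refine Ideal.mem_map_of_mem (ea : B ⊗[R] A →+* MonoidAlgebra B (Multiplicative M)) ?_
            rw [show b ⊗ₜ[R] φ (c - algebraMap R C (Coalgebra.counit (R := R) c)) = (b ⊗ₜ[R] (1 : A)) *
              ((1 : B) ⊗ₜ[R] φ (c - algebraMap R C (Coalgebra.counit (R := R) c))) by simp]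
            exact Ideal.mul_mem_left _ _ (Ideal.mem_map_of_mem _ h1)
          rw [map_sub φ, AlgHomClass.commutes, TensorProduct.tmul_sub, map_sub] at h2
          rw [hmem, TensorProduct.counit_tmul, CommSemiring.counit_apply]
          convert h2 using 2
          rw [← AlgEquiv.commutes ea, Algebra.TensorProduct.algebraMap_apply, Algebra.algebraMap_self, RingHom.id_apply,
            Algebra.algebraMap_eq_smul_one (A := A), TensorProduct.tmul_smul, ← TensorProduct.smul_tmul']
      have h := key x
      rw [show Coalgebra.counit (R := B) x = 0 from hx, map_zero, sub_zero] at h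
      exact h
    · rw [Ideal.map_le_iff_le_comap, Ideal.map_le_iff_le_comap, hJ, Ideal.map_le_iff_le_comap]
      intro c hc
      show ea ((1 : B) ⊗ₜ φ c) ∈ kerI ψ
      rw [← hmem]
      refine Ideal.mem_map_of_mem ψ ?_
      show Coalgebra.counit (R := B) ((1 : B) ⊗ₜ[R] c) = 0
      rw [TensorProduct.counit_tmul, show Coalgebra.counit (R := R) c = 0 from hc, zero_smul]
  exact Module.Free.of_equiv ((Algebra.TensorProduct.tensorQuotientEquiv (R := R) B A B J).trans
    (Ideal.quotientEquivAlg J₁ (kerI ψ) ea hker)).symm.toLinearEquiv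

/-- The kernel is flat. -/
theorem flat_quot (hA : IsMultType R A) (hft : Algebra.FiniteType R A) (J : Ideal A)
    (hJ : J = Ideal.map φ (RingHom.ker (Bialgebra.counitAlgHom R C))) : Module.Flat R (A ⧸ J) := by
  refine Module.flat_of_localized_maximal (R := R) (M := A ⧸ J) fun p _ => ?_
  obtain ⟨S, _, _, P, hS, hP, hPp, hSd⟩ := exists_etale_split_multType hA hft p
  haveI : P.LiesOver p := ⟨hPp.symm⟩
  let Rp := Localization.AtPrime p
  let B := Localization.AtPrime P
  letI : Algebra Rp B := Localization.AtPrime.algebraOfLiesOver p P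
  haveI : IsScalarTower R Rp B := inferInstance
  haveI : Module.FaithfullyFlat Rp B := Module.FaithfullyFlat.of_flat_of_isLocalHom
  haveI := free_baseChange φ hft J hJ B (MultType.isDiag_of_algHom (IsScalarTower.toAlgHom R S B) hSd)
  haveI : Module.Flat B (B ⊗[Rp] (Rp ⊗[R] (A ⧸ J))) :=
    Module.Flat.of_linearEquiv (TensorProduct.AlgebraTensorModule.cancelBaseChange R Rp B B (A ⧸ J))
  haveI : Module.Flat Rp (Rp ⊗[R] (A ⧸ J)) := Module.Flat.of_flat_tensorProduct Rp (Rp ⊗[R] (A ⧸ J)) B
  haveI : Module.Flat R (Rp ⊗[R] (A ⧸ J)) := Module.Flat.trans R Rp _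
  exact Module.Flat.of_linearEquiv
    ((LocalizedModule.equivTensorProduct p.primeCompl (A ⧸ J)).restrictScalars R)

/-- The kernel is of multiplicative type. -/
theorem isMultType_kernel (hA : IsMultType R A) (hft : Algebra.FiniteType R A) [Algebra.FinitePresentation R C]
    (J : Ideal A) [J.IsHopfIdeal R] (hJ : J = Ideal.map φ (RingHom.ker (Bialgebra.counitAlgHom R C))) :
    IsMultType R (A ⧸ J) := by
  haveI := hft
  haveI := finitePresentation_of_isMultType hA hft
  haveI := flat_quot φ hA hft J hJ
  have hI : (RingHom.ker (Bialgebra.counitAlgHom R C).toRingHom).FG :=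
    Algebra.FinitePresentation.ker_fG_of_surjective (Bialgebra.counitAlgHom R C)
      fun r => ⟨algebraMap R C r, (Bialgebra.counitAlgHom R C).commutes r⟩
  have hfg : J.FG := by
    rw [hJ]
    exact hI.map (φ : C →ₐ[R] A).toRingHom
  haveI : Algebra.FinitePresentation R (A ⧸ J) := Algebra.FinitePresentation.quotient hfg
  refine MultFib.isMultType_of_etale_splits fun p => ?_
  obtain ⟨S, _, _, P, hS, hP, hPp, hSd⟩ := exists_etale_split_multType hA hft p.asIdeal
  haveI : P.LiesOver p.asIdeal := ⟨hPp.symm⟩
  exact MultBridge.exists_etale_split_of_quot (Bialgebra.Quotient.mkBialgHom J) Ideal.Quotient.mk_surjective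
    p.asIdeal S P hSd

end Groth.Agent.HopfKer
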