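import Groth.Agent.HopfKer.Rigid
import Groth.Agent.MultKer.Stable
import Groth.Agent.MultKer.Li
import Groth.Agent.MultKer.Main
import Groth.Agent.FixedSmooth.CoreLocal
/-!
The kernel of a homomorphism from a diagonalisable group over a local ring is flat.
-/

set_option autoImplicit false
set_option backward.isDefEq.respectTransparency false
set_option backward.isDefEq.respectTransparency.types false
set_option linter.unusedSectionVars false
set_option linter.style.haveILetI false

universe u

open TensorProduct MonoidAlgebra IsLocalRing WithConv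
open scoped TensorProduct

noncomputable section

namespace Groth.Agent.HopfKer

variable {B : Type u} [CommRing B] {C : Type u} [CommRing C] [HopfAlgebra B C] {G : Type} [CommGroup G]
  (ψ : C →ₐc[B] MonoidAlgebra B G)

/-- The kernel ideal. -/
def kerI : Ideal (MonoidAlgebra B G) := Ideal.map ψ (RingHom.ker (Bialgebra.counitAlgHom B C))

variable {D : Type u} [CommRing D] [Algebra B D]

/-- The point of a character. -/
def Λ (χ : G →* D) : WithConv (MonoidAlgebra B G →ₐ[B] D) := toConv (MonoidAlgebra.lift B D G χ)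

theorem Λ_mul (χ χ' : G →* D) : Λ (B := B) (χ * χ') = Λ χ * Λ χ' := by
  apply WithConv.ofConv_injective
  apply MonoidAlgebra.algHom_ext
  · intro m
    simp [Λ, AlgHom.convMul_apply, MonoidAlgebra.comul_single]
  · ext

/-- Restriction along the homomorphism. -/
def res (f : WithConv (MonoidAlgebra B G →ₐ[B] D)) : WithConv (C →ₐ[B] D) :=
  toConv (f.ofConv.comp (ψ : C →ₐ[B] MonoidAlgebra B G))

theorem res_mul (f f' : WithConv (MonoidAlgebra B G →ₐ[B] D)) : res ψ (f * f') = res ψ f * res ψ f' := by
  apply WithConv.ofConv_injective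
  refine AlgHom.ext fun c => ?_
  show (f * f').ofConv (ψ c) = (res ψ f * res ψ f').ofConv c
  rw [AlgHom.convMul_apply, AlgHom.convMul_apply, ← CoalgHomClass.map_comp_comul_apply ψ]
  induction Coalgebra.comul (R := B) c with
  | zero => simp
  | add a b ha hb => simp only [map_add, ha, hb]
  | tmul a b => simp [res]

theorem L_eq_lift (χ : G →* D) (z : MonoidAlgebra B G) :
    FixedSmooth.L (algebraMap B D) χ z = MonoidAlgebra.lift B D G χ z := by
  induction z using MonoidAlgebra.induction_linear with
  | zero => simp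
  | add a b ha hb => simp [ha, hb]
  | single m a => rw [FixedSmooth.L_single]; simp [Algebra.smul_def]

theorem kerI_le_iff (χ : G →* D) :
    kerI ψ ≤ RingHom.ker (FixedSmooth.L (algebraMap B D) χ) ↔ res ψ (Λ χ) = 1 := by
  constructor
  · intro h
    apply WithConv.ofConv_injective
    refine AlgHom.ext fun c => ?_
    show MonoidAlgebra.lift B D G χ (ψ c) = (1 : WithConv (C →ₐ[B] D)).ofConv c
    rw [AlgHom.convOne_apply, ← sub_eq_zero, ← L_eq_lift]
    have hm : ψ (c - algebraMap B C (Coalgebra.counit c)) ∈ kerI ψ := Ideal.mem_map_of_mem _ (by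
      show Bialgebra.counitAlgHom B C _ = 0
      simp)
    have h0 := RingHom.mem_ker.1 (h hm)
    rw [map_sub, AlgHomClass.commutes, map_sub, L_eq_lift, L_eq_lift, AlgHom.commutes] at h0
    rw [L_eq_lift]
    exact h0
  · intro h
    refine Ideal.map_le_iff_le_comap.2 fun c hc => ?_
    have hc' : Coalgebra.counit (R := B) c = 0 := hc
    have h0 := DFunLike.congr_fun (congrArg WithConv.ofConv h) c
    rw [AlgHom.convOne_apply, hc', map_zero] at h0
    show FixedSmooth.L (algebraMap B D) χ (ψ c) = 0
    rw [L_eq_lift]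
    exact h0

theorem res_one : res ψ (Λ (D := D) (1 : G →* D)) = 1 := by
  apply WithConv.ofConv_injective
  refine AlgHom.ext fun c => ?_
  show MonoidAlgebra.lift B D G 1 (ψ c) = _
  rw [AlgHom.convOne_apply, ← CoalgHomClass.counit_comp_apply ψ c]
  generalize ψ c = z
  induction z using MonoidAlgebra.induction_linear with
  | zero => simp
  | add a b ha hb => simp only [map_add, ha, hb]
  | single m a => simp [Algebra.smul_def]

/-- The kernel is cut out by a subgroup of the characters. -/
theorem exists_subgroup [IsLocalRing B] [Algebra.FiniteType B C] [Group.FG G]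
    (hfg : ∀ N : Subgroup G, Group.FG N) :
    ∃ N : Subgroup G, (∀ n ∈ N, (single n 1 : MonoidAlgebra B G) - 1 ∈ kerI ψ) ∧
      kerI ψ ≤ RingHom.ker (MonoidAlgebra.mapDomainAlgHom B B (QuotientGroup.mk' N)) := by
  classical
  let κ := ResidueField B
  let red : MonoidAlgebra B G →+* MonoidAlgebra κ G := MonoidAlgebra.mapRingHom G (residue B)
  let Jκ : Ideal (MonoidAlgebra κ G) := (kerI ψ).map red
  let N : Subgroup G := MonoidHom.ker ((Ideal.Quotient.mk Jκ).toMonoidHom.comp (MonoidAlgebra.of κ G))
  have hN : ∀ m, m ∈ N ↔ single m 1 - 1 ∈ Jκ := fun m => by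
    rw [← Ideal.Quotient.eq_zero_iff_mem, map_sub, map_one, sub_eq_zero]
    rfl
  have hLκ : ∀ {E : Type u} [CommRing E] (g : κ →+* E) (χ : G →* E),
      (FixedSmooth.L g χ).comp red = FixedSmooth.L (g.comp (residue B)) χ := fun g χ =>
    MonoidAlgebra.ringHom_ext (fun b => by simp [red]) (fun m => by simp [red])
  have hpts : ∀ {E : Type u} [CommRing E] [Algebra κ E] (χ : G →* E),
      letI : Algebra B E := ((algebraMap κ E).comp (residue B)).toAlgebra
      Jκ ≤ RingHom.ker (FixedSmooth.L (algebraMap κ E) χ) ↔ res ψ (Λ χ) = 1 := by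
    intro E _ _ χ
    letI : Algebra B E := ((algebraMap κ E).comp (residue B)).toAlgebra
    rw [Ideal.map_le_iff_le_comap, RingHom.comap_ker, hLκ]
    exact kerI_le_iff ψ χ
  have hne : Jκ ≠ ⊤ := fun htop => by
    letI : Algebra B κ := ((algebraMap κ κ).comp (residue B)).toAlgebra
    have h1 := (hpts (E := κ) 1).2 (res_one ψ)
    exact one_ne_zero (α := κ) ((map_one _).symm.trans
      (RingHom.mem_ker.1 (h1 (htop ▸ Submodule.mem_top (x := (1 : MonoidAlgebra κ G))))))
  -- the closed fibre lies in the expected subgroup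
  let π : MonoidAlgebra B G →ₐc[B] MonoidAlgebra B (G ⧸ N) :=
    MonoidAlgebra.mapDomainBialgHom B (QuotientGroup.mk' N)
  haveI : Algebra.FiniteType B C := inferInstance
  have htriv : ∀ c, π (ψ c) = algebraMap B _ (Coalgebra.counit c) := by
    refine eq_counit_of_mem_maximalIdeal (Q := G ⧸ N) (π.comp ψ) fun c q => ?_
    let E := MonoidAlgebra κ (G ⧸ N)
    letI : Algebra B E := ((algebraMap κ E).comp (residue B)).toAlgebra
    let χ : G →* E := (MonoidAlgebra.of κ (G ⧸ N)).comp (QuotientGroup.mk' N)
    have hk : Jκ ≤ RingHom.ker (FixedSmooth.L (algebraMap κ E) χ) :=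
      MultKer.le_ker_of_kills Jκ hne (fun {D'} _ _ χ₁ χ₂ h₁ h₂ => by
        letI : Algebra B D' := ((algebraMap κ D').comp (residue B)).toAlgebra
        rw [hpts] at h₁ h₂ ⊢
        rw [Λ_mul, res_mul, h₁, h₂, mul_one]) χ fun n hn => by
          show MonoidAlgebra.of κ (G ⧸ N) (QuotientGroup.mk' N n) = 1
          rw [show QuotientGroup.mk' N n = 1 from (QuotientGroup.eq_one_iff n).2 ((hN n).2 hn), map_one]
    have h1 := DFunLike.congr_fun (congrArg WithConv.ofConv ((hpts χ).1 hk)) c
    rw [AlgHom.convOne_apply] at h1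
    have h2 : ∀ z, MonoidAlgebra.lift B E G χ z =
        MonoidAlgebra.mapRingHom (G ⧸ N) (residue B) (π z) := by
      intro z
      induction z using MonoidAlgebra.induction_linear with
      | zero => simp
      | add a b ha hb => simp only [map_add, ha, hb]
      | single m a =>
        rw [MonoidAlgebra.lift_single, MonoidAlgebra.mapDomainBialgHom_single, MonoidAlgebra.mapRingHom_single,
          Algebra.smul_def]
        show algebraMap κ E (residue B a) * single (QuotientGroup.mk' N m) 1 = _
        simp [E]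
    have h3 : MonoidAlgebra.mapRingHom (G ⧸ N) (residue B)
        (π (ψ c) - algebraMap B _ (Coalgebra.counit c)) = 0 := by
      rw [map_sub, ← h2, show MonoidAlgebra.lift B E G χ (ψ c) = _ from h1, sub_eq_zero]
      show algebraMap κ E (residue B _) = MonoidAlgebra.mapRingHom _ _ (single 1 _)
      rw [MonoidAlgebra.mapRingHom_single]
      rfl
    have h4 := congrArg (fun z : E => z.coeff q) h3
    rw [← Ideal.Quotient.eq_zero_iff_mem]
    exact (coeff_mapRingHom _ _ _).symm.trans h4
  refine ⟨N, ?_, Ideal.map_le_iff_le_comap.2 fun c hc => ?_⟩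
  swap
  · have hc' : Coalgebra.counit (R := B) c = 0 := hc
    show π (ψ c) = 0
    rw [htriv, hc', map_zero]
  haveI := hfg N
  have hε : kerI ψ ≤ RingHom.ker (FixedSmooth.L (RingHom.id B) (1 : G →* B)) := (kerI_le_iff (D := B) ψ 1).2 (res_one ψ)
  refine MultKer.sub_one_mem (kerI ψ) N hε (fun {L'} _ g χ hχ χ' hχ' φ hφ => ?_) ?_ fun n hn => ?_
  · letI : Algebra B L' := g.toAlgebra
    have h1 : res ψ (Λ χ) = 1 := (kerI_le_iff ψ χ).1 hχ
    have h2 : res ψ (Λ χ') = 1 := (kerI_le_iff ψ χ').1 hχ'
    refine (kerI_le_iff ψ φ).2 ?_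
    rw [← hφ, Λ_mul, res_mul, h1, mul_one] at h2
    exact h2
  · refine MultKer.coeff_cosets_mem (kerI ψ) N fun {D'} _ cm χ₁ χ₂ h₁ h₂ => ?_
    letI : Algebra B D' := cm.toAlgebra
    have e1 : res ψ (Λ χ₁) = 1 := (kerI_le_iff ψ χ₁).1 h₁
    have e2 : res ψ (Λ χ₂) = 1 := by
      apply WithConv.ofConv_injective
      refine AlgHom.ext fun c => ?_
      show MonoidAlgebra.lift B D' G χ₂ (ψ c) = _
      rw [AlgHom.convOne_apply]
      let ω : G ⧸ N →* D' := QuotientGroup.lift N χ₂ h₂
      have h3 : ∀ z, MonoidAlgebra.lift B D' G χ₂ z = MonoidAlgebra.lift B D' (G ⧸ N) ω (π z) := by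
        intro z
        induction z using MonoidAlgebra.induction_linear with
        | zero => simp
        | add a b ha hb => simp only [map_add, ha, hb]
        | single m a =>
          rw [MonoidAlgebra.lift_single, MonoidAlgebra.mapDomainBialgHom_single, MonoidAlgebra.lift_single]
          rfl
      rw [h3, htriv, AlgHom.commutes]
    refine (kerI_le_iff ψ (χ₁ * χ₂)).2 ?_
    rw [Λ_mul, res_mul, e1, e2, mul_one]
  · have hker : RingHom.ker red ≤ (maximalIdeal B).map (singleOneRingHom : B →+* MonoidAlgebra B G) := fun w hw =>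
      FixedSmooth.mem_map_of_coeff fun m => by
        rw [← residue_eq_zero_iff]
        exact (coeff_mapRingHom _ _ _).symm.trans (by rw [RingHom.mem_ker.1 hw]; rfl)
    have hsurj : Function.Surjective red := FixedSmooth.mapRingHom_surjective _ residue_surjective
    have hx : red (single n 1 - 1) ∈ (kerI ψ).map red := by
      rw [map_sub, map_one, MonoidAlgebra.mapRingHom_single, map_one]
      exact (hN n).1 hn
    obtain ⟨j, hj, hje⟩ := (Ideal.mem_map_iff_of_surjective red hsurj).1 hx
    rw [show (single n 1 : MonoidAlgebra B G) - 1 = j + (single n 1 - 1 - j) by ring]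
    exact Submodule.add_mem_sup hj (hker (by rw [RingHom.mem_ker, map_sub, hje, sub_self]))

/-- The kernel is flat. -/
theorem free_quotient [IsLocalRing B] [Algebra.FiniteType B C] [Group.FG G] (hfg : ∀ N : Subgroup G, Group.FG N) :
    Module.Free B (MonoidAlgebra B G ⧸ kerI ψ) := by
  obtain ⟨N, hmem, hle⟩ := exists_subgroup ψ hfg
  let f : MonoidAlgebra B G ⧸ kerI ψ →ₐ[B] MonoidAlgebra B (G ⧸ N) :=
    Ideal.Quotient.liftₐ (kerI ψ) (MonoidAlgebra.mapDomainAlgHom B B (QuotientGroup.mk' N)) hle
  let θ : G ⧸ N →* MonoidAlgebra B G ⧸ kerI ψ :=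
    QuotientGroup.lift N ((Ideal.Quotient.mk (kerI ψ)).toMonoidHom.comp (MonoidAlgebra.of B G)) fun n hn => by
      show Ideal.Quotient.mk _ (single n 1) = 1
      rw [← sub_eq_zero, ← map_one (Ideal.Quotient.mk (kerI ψ)), ← map_sub, Ideal.Quotient.eq_zero_iff_mem]
      exact hmem n hn
  let g : MonoidAlgebra B (G ⧸ N) →ₐ[B] MonoidAlgebra B G ⧸ kerI ψ := MonoidAlgebra.lift B _ _ θ
  have h1 : f.comp g = AlgHom.id B _ := MonoidAlgebra.algHom_ext (fun q => by
    induction q using QuotientGroup.induction_on with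
    | H m => simp [f, g, θ]) (by ext)
  have h2 : g.comp f = AlgHom.id B _ := Ideal.Quotient.algHom_ext _ (MonoidAlgebra.algHom_ext (fun m => by
    simp [f, g, θ]) (by ext))
  exact Module.Free.of_equiv
    ((MonoidAlgebra.coeffLinearEquiv (M := G ⧸ N) B).symm.trans (AlgEquiv.ofAlgHom g f h2 h1).toLinearEquiv)

end Groth.Agent.HopfKer
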