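import Mathlib
/-!
A homomorphism of a diagonalisable group which is trivial on the closed fibre is trivial.
-/

set_option autoImplicit false
set_option linter.unusedSectionVars false

universe u v

open TensorProduct MonoidAlgebra IsLocalRing
open scoped TensorProduct

noncomputable section

namespace Groth.Agent.HopfKer

variable {B : Type u} [CommRing B] {C : Type u} [CommRing C] [Bialgebra B C] {Q : Type v} [CommGroup Q]

/-- The coefficient functional. -/
def cf (q : Q) : MonoidAlgebra B Q →ₗ[B] B := (MonoidAlgebra.basis Q B).coord q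

theorem cf_apply (q : Q) (x : MonoidAlgebra B Q) : cf q x = x.coeff q := rfl

/-- The product of the coefficient functionals at a diagonal point. -/
theorem cf_comul (q : Q) (x : MonoidAlgebra B Q) :
    LinearMap.mul' B B (TensorProduct.map (cf q) (cf q) (Coalgebra.comul (R := B) x)) = cf q x := by
  classical
  induction x using MonoidAlgebra.induction_linear with
  | zero => simp
  | add a b ha hb => simp only [map_add, ha, hb]
  | single r a => by_cases h : r = q <;> simp [cf_apply, MonoidAlgebra.comul_single, h, Finsupp.single_apply]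

/-- The deviation from the counit, at a coefficient. -/
theorem sum_dev (ψ : C →ₐc[B] MonoidAlgebra B Q) (q : Q) (c : C) {ι : Type*} (r : Coalgebra.Repr B c ι) :
    ∑ i ∈ r.index, cf q (ψ (r.left i) - algebraMap B _ (Coalgebra.counit (r.left i))) *
      cf q (ψ (r.right i) - algebraMap B _ (Coalgebra.counit (r.right i))) =
    (1 - 2 * cf q 1) * cf q (ψ c) + cf q (1 : MonoidAlgebra B Q) * cf q 1 * Coalgebra.counit c := by
  have h1 : ∑ i ∈ r.index, cf q (ψ (r.left i)) * cf q (ψ (r.right i)) = cf q (ψ c) := by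
    rw [← cf_comul q (ψ c), ← CoalgHomClass.map_comp_comul_apply, ← r.eq]
    simp [map_sum]
  have h2 : ∑ i ∈ r.index, Coalgebra.counit (R := B) (r.left i) * cf q (ψ (r.right i)) = cf q (ψ c) := by
    conv_rhs => rw [← Coalgebra.sum_counit_smul r]
    simp [map_sum, map_smul]
  have h3 : ∑ i ∈ r.index, cf q (ψ (r.left i)) * Coalgebra.counit (R := B) (r.right i) = cf q (ψ c) := by
    have h5 := congrArg (TensorProduct.rid B C) (Coalgebra.sum_tmul_counit_eq r)
    simp only [map_sum, TensorProduct.rid_tmul, one_smul] at h5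
    conv_rhs => rw [← h5]
    simp [map_sum, map_smul, mul_comm]
  have h4 : ∑ i ∈ r.index, Coalgebra.counit (R := B) (r.left i) * Coalgebra.counit (R := B) (r.right i) =
      Coalgebra.counit (R := B) c := by
    conv_rhs => rw [← Coalgebra.sum_counit_smul r]
    simp [map_sum, map_smul]
  have hone : ∀ b : B, cf q (algebraMap B (MonoidAlgebra B Q) b) = b * cf q 1 := fun b => by
    rw [Algebra.algebraMap_eq_smul_one, map_smul, smul_eq_mul]
  simp only [map_sub, hone]
  calc _ = ∑ i ∈ r.index, (cf q (ψ (r.left i)) * cf q (ψ (r.right i))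
        - cf q 1 * (Coalgebra.counit (R := B) (r.left i) * cf q (ψ (r.right i)))
        - cf q 1 * (cf q (ψ (r.left i)) * Coalgebra.counit (R := B) (r.right i))
        + cf q 1 * cf q 1 * (Coalgebra.counit (R := B) (r.left i) * Coalgebra.counit (R := B) (r.right i))) :=
      Finset.sum_congr rfl fun i _ => by ring
    _ = _ := by
      simp only [Finset.sum_add_distrib, Finset.sum_sub_distrib, ← Finset.mul_sum, h1, h2, h3, h4]
      ring

/-- Triviality on the closed fibre gives triviality. -/
theorem eq_counit_of_mem_maximalIdeal [IsLocalRing B] [Algebra.FiniteType B C] (ψ : C →ₐc[B] MonoidAlgebra B Q)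
    (h : ∀ (c : C) (q : Q), cf q (ψ c - algebraMap B _ (Coalgebra.counit c)) ∈ maximalIdeal B) (c : C) :
    ψ c = algebraMap B _ (Coalgebra.counit c) := by
  classical
  obtain ⟨s, hs⟩ := (Algebra.FiniteType.out : (⊤ : Subalgebra B C).FG)
  let z : C → MonoidAlgebra B Q := fun c => ψ c - algebraMap B _ (Coalgebra.counit c)
  let 𝔞 : Ideal B := Ideal.span ↑(s.biUnion fun x => (z x).coeff.support.image fun q => cf q (z x))
  have hfg : 𝔞.FG := ⟨_, rfl⟩
  have hmem : ∀ x ∈ s, ∀ q, cf q (z x) ∈ 𝔞 := fun x hx q => by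
    by_cases hq : (z x).coeff q = 0
    · rw [cf_apply, hq]; exact Ideal.zero_mem _
    · exact Ideal.subset_span (Finset.mem_coe.2 (Finset.mem_biUnion.2 ⟨x, hx,
        Finset.mem_image.2 ⟨q, Finsupp.mem_support_iff.2 hq, rfl⟩⟩))
  have hz : ∀ c q, cf q (z c) ∈ 𝔞 := by
    let f : MonoidAlgebra B Q →+* MonoidAlgebra (B ⧸ 𝔞) Q := MonoidAlgebra.mapRingHom Q (Ideal.Quotient.mk 𝔞)
    have hsub : ∀ c ∈ (⊤ : Subalgebra B C), f (z c) = 0 := by
      rw [← hs]
      intro c hc
      induction hc using Algebra.adjoin_induction with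
      | mem x hx =>
        refine MonoidAlgebra.ext (Finsupp.ext fun q => ?_)
        exact (coeff_mapRingHom _ _ _).trans (Ideal.Quotient.eq_zero_iff_mem.2 (hmem x hx q))
      | algebraMap b =>
        show f (ψ (algebraMap B C b) - algebraMap B _ (Coalgebra.counit (R := B) (algebraMap B C b))) = 0
        rw [AlgHomClass.commutes, Bialgebra.counit_algebraMap, sub_self, map_zero]
      | add x y _ _ hx hy =>
        rw [show z (x + y) = z x + z y by simp only [z, map_add]; abel, map_add, hx, hy, add_zero]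
      | mul x y _ _ hx hy =>
        rw [show z (x * y) = z x * ψ y + algebraMap B _ (Coalgebra.counit (R := B) x) * z y by
          simp only [z, map_mul, Bialgebra.counit_mul]; ring, map_add, map_mul, map_mul, hx, hy]
        simp
    intro c q
    rw [← Ideal.Quotient.eq_zero_iff_mem]
    exact (coeff_mapRingHom _ _ _).symm.trans (by rw [show f (z c) = 0 from hsub c trivial])
  have hsq : 𝔞 ≤ 𝔞 • 𝔞 := Ideal.span_le.2 fun b hb => by
    obtain ⟨x, -, q, -, rfl⟩ : ∃ x ∈ s, ∃ q ∈ (z x).coeff.support, cf q (z x) = b := by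
      simpa [Finset.mem_biUnion, Finset.mem_image] using hb
    let r := Coalgebra.Repr.arbitrary B x
    have hm : ∑ i ∈ r.index, cf q (z (r.left i)) * cf q (z (r.right i)) ∈ 𝔞 • 𝔞 :=
      Ideal.sum_mem _ fun i _ => Submodule.smul_mem_smul (hz _ q) (hz _ q)
    rw [sum_dev] at hm
    have hcf : cf q (z x) = cf q (ψ x) - Coalgebra.counit x * cf q (1 : MonoidAlgebra B Q) := by
      simp only [z, map_sub, Algebra.algebraMap_eq_smul_one, map_smul, smul_eq_mul]
    by_cases hq : q = 1
    · have h1 : cf q (1 : MonoidAlgebra B Q) = 1 := by rw [hq, cf_apply]; simp [MonoidAlgebra.one_def]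
      rw [h1] at hm hcf
      show cf q (z x) ∈ 𝔞 • 𝔞
      have := Submodule.neg_mem _ hm
      rw [hcf]
      convert this using 1; ring
    · have h1 : cf q (1 : MonoidAlgebra B Q) = 0 := by
        rw [cf_apply]; simp [MonoidAlgebra.one_def, Finsupp.single_apply, Ne.symm hq]
      rw [h1] at hm hcf
      show cf q (z x) ∈ 𝔞 • 𝔞
      rw [hcf]
      simpa using hm
  have hle : 𝔞 ≤ maximalIdeal B := Ideal.span_le.2 fun b hb => by
    obtain ⟨x, -, q, -, rfl⟩ : ∃ x ∈ s, ∃ q ∈ (z x).coeff.support, cf q (z x) = b := by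
      simpa [Finset.mem_biUnion, Finset.mem_image] using hb
    exact h x q
  have h0 : 𝔞 = ⊥ := Submodule.eq_bot_of_le_smul_of_le_jacobson_bot 𝔞 𝔞 hfg hsq
    (hle.trans (maximalIdeal_le_jacobson _))
  refine sub_eq_zero.1 (MonoidAlgebra.ext (Finsupp.ext fun q => ?_))
  have := hz c q
  rw [h0] at this
  exact this

end Groth.Agent.HopfKer
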